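import Mathlib

/-!
# Search trees of natural numbers

A tree of natural numbers with a membership test by descent (which is sound for any tree, ordered or not), a
universal test and a filter.
-/

set_option autoImplicit false

namespace Cfsg.Agent.J3O

/-- a binary tree with natural numbers at the nodes -/
inductive CT where
  | L : CT
  | N : CT → ℕ → CT → CT

namespace CT

/-- the numbers at the nodes -/
def In (c : ℕ) : CT → Prop
  | L => False
  | N l v r => c = v ∨ In c l ∨ In c r

/-- the membership test by descent -/
def mem (c : ℕ) : CT → Bool
  | L => false
  | N l v r => cond (Nat.blt c v) (mem c l) (cond (Nat.blt v c) (mem c r) true)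

/-- the universal test -/
def all (p : ℕ → Bool) : CT → Bool
  | L => true
  | N l v r => p v && all p l && all p r

/-- the list of the numbers at the nodes satisfying a test -/
def filterL (p : ℕ → Bool) : CT → List ℕ
  | L => []
  | N l v r => cond (p v) (v :: (filterL p l ++ filterL p r)) (filterL p l ++ filterL p r)

theorem mem_sound {c : ℕ} : ∀ {T : CT}, mem c T = true → In c T
  | L, h => by simp [mem] at h
  | N l v r, h => by
    rw [mem] at h
    rw [In]
    by_cases h1 : Nat.blt c v = true
    · rw [h1, cond_true] at h
      exact Or.inr (Or.inl (mem_sound h))
    · rw [Bool.not_eq_true] at h1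
      rw [h1, cond_false] at h
      by_cases h2 : Nat.blt v c = true
      · rw [h2, cond_true] at h
        exact Or.inr (Or.inr (mem_sound h))
      · rw [Bool.not_eq_true] at h2
        left
        have e1 : ¬ c < v := by
          intro hlt
          have : Nat.blt c v = true := by rw [Nat.blt_eq]; exact hlt
          rw [h1] at this; exact absurd this (by simp)
        have e2 : ¬ v < c := by
          intro hlt
          have : Nat.blt v c = true := by rw [Nat.blt_eq]; exact hlt
          rw [h2] at this; exact absurd this (by simp)
        omega

theorem all_sound {p : ℕ → Bool} {c : ℕ} : ∀ {T : CT}, all p T = true → In c T → p c = true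
  | L, _, h => absurd h (by simp [In])
  | N l v r, h, hc => by
    rw [all, Bool.and_eq_true, Bool.and_eq_true] at h
    rw [In] at hc
    rcases hc with rfl | hc | hc
    · exact h.1.1
    · exact all_sound h.1.2 hc
    · exact all_sound h.2 hc

theorem mem_filterL {p : ℕ → Bool} {c : ℕ} : ∀ {T : CT}, In c T → p c = true → c ∈ filterL p T
  | L, h, _ => absurd h (by simp [In])
  | N l v r, h, hp => by
    rw [In] at h
    rw [filterL]
    have key : In c l ∨ In c r → c ∈ filterL p l ++ filterL p r := by
      rintro (h | h)
      · exact List.mem_append_left _ (mem_filterL h hp)
      · exact List.mem_append_right _ (mem_filterL h hp)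
    rcases h with rfl | h
    · rw [hp, cond_true]
      exact List.mem_cons_self
    · cases p v
      · rw [cond_false]; exact key h
      · rw [cond_true]; exact List.mem_cons_of_mem _ (key h)

end CT

end Cfsg.Agent.J3O
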