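import Cfsg.Agent.Lib.Helper6.J3Group
import Cfsg.Agent.Lib.Lead.J3.Tree

/-!
# The group 3·J₃ and its central quotient: elements with codes, scalars, straight line programs

An element of the matrix group has the code `c` if its matrix is the matrix denoted by `c`.  The central quotient
sees exactly whether a code is one of the three scalar codes.  Straight line programs are evaluated on codes (by
the kernel) and on elements of any monoid; homomorphisms commute with them.
-/

set_option autoImplicit false
set_option linter.unusedSectionVars false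

namespace Cfsg.Agent.J3O

open Cfsg.Spor Cfsg.Agent.Lib.Helper6.Cod Cfsg.Agent.Lib.Helper6.F4 Cfsg.Agent.Lib.Helper6.J3

/-! ### strict evaluation and straight line programs -/

/-- application that first evaluates the argument -/
def strict {α : Type*} (x : ℕ) (f : ℕ → α) : α :=
  match x + 1 with
  | 0 => f x
  | n + 1 => f n

theorem strict_eq {α : Type*} (x : ℕ) (f : ℕ → α) : strict x f = f x := rfl

/-- a straight line program on codes: each instruction multiplies two registers (counted from the newest) and
pushes the product -/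
def run : List (ℕ × ℕ) → List ℕ → List ℕ
  | [], regs => regs
  | ij :: is, regs => strict (lmul (regs.getD ij.1 lone) (regs.getD ij.2 lone)) fun v => run is (v :: regs)

theorem run_cons (ij : ℕ × ℕ) (is : List (ℕ × ℕ)) (regs : List ℕ) :
    run (ij :: is) regs = run is (lmul (regs.getD ij.1 lone) (regs.getD ij.2 lone) :: regs) := by
  rw [run, strict_eq]

/-- a straight line program in a monoid -/
def runM {M : Type*} [Monoid M] : List (ℕ × ℕ) → List M → List M
  | [], regs => regs
  | ij :: is, regs => runM is (regs.getD ij.1 1 * regs.getD ij.2 1 :: regs)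

theorem map_runM {M N : Type*} [Monoid M] [Monoid N] (f : M →* N) :
    ∀ (is : List (ℕ × ℕ)) (regs : List M), (runM is regs).map f = runM is (regs.map f)
  | [], _ => rfl
  | ij :: is, regs => by
    rw [runM, runM, map_runM f is, List.map_cons, map_mul]
    congr 3
    · rw [← map_one f, List.getD_map]
    · rw [← map_one f, List.getD_map]

section

variable {F : Type*} [Field F] [Finite F] {ω : F} (hω : ω ^ 2 + ω + 1 = 0) (h2 : (2 : F) = 0)

/-- the element `g` has the code `c` -/
def HasCode (g : ↥(G₂ hω h2)) (c : ℕ) : Prop := ι F g.1 = den F ω c ∧ c < 2 ^ 162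

variable {hω h2}

theorem hasCode_one : HasCode hω h2 1 lone :=
  ⟨by rw [Subgroup.coe_one, map_one, den_one], by norm_num [lone]⟩

theorem HasCode.mul {g g' : ↥(G₂ hω h2)} {c c' : ℕ} (h : HasCode hω h2 g c)
    (h' : HasCode hω h2 g' c') : HasCode hω h2 (g * g') (lmul c c') :=
  ⟨by rw [Subgroup.coe_mul, map_mul, h.1, h'.1, den_mul hω h2], lmul_lt _ _⟩

theorem HasCode.code_eq {g : ↥(G₂ hω h2)} {c c' : ℕ} (h : HasCode hω h2 g c)
    (h' : HasCode hω h2 g c') : c = c' :=
  den_inj hω h2 _ _ h.2 h'.2 (h.1.symm.trans h'.1)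

theorem HasCode.elt_eq {g g' : ↥(G₂ hω h2)} {c : ℕ} (h : HasCode hω h2 g c)
    (h' : HasCode hω h2 g' c) : g = g' :=
  Subtype.ext (ι_inj (h.1.trans h'.1.symm))

variable (hω h2)

/-- the element of a word in the letters -/
def elt (w : List ℕ) : ↥(G₂ hω h2) :=
  ⟨evalGL (sys hω h2).gen w, evalGL_mem _ (sys hω h2).hH w⟩

theorem hasCode_elt (w : List ℕ) : HasCode hω h2 (elt hω h2 w) (evalW lmul lone codesX w) :=
  ⟨val_evalGL' hω h2 w, canon_evalW (coding hω h2) codesX w⟩

/-- the first generator -/
def aE : ↥(G₂ hω h2) := ⟨aΓ hω h2, aΓ_mem hω h2⟩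
/-- the second generator -/
def bE : ↥(G₂ hω h2) := ⟨bΓ hω h2, bΓ_mem hω h2⟩

theorem hasCode_a : HasCode hω h2 (aE hω h2) ca := ⟨rfl, by norm_num [ca]⟩
theorem hasCode_b : HasCode hω h2 (bE hω h2) cb := ⟨rfl, by norm_num [cb]⟩

theorem closure_ab : Subgroup.closure ({aE hω h2, bE hω h2} : Set ↥(G₂ hω h2)) = ⊤ := by
  have h := Subgroup.closure_closure_coe_preimage (k := ({aΓ hω h2, bΓ hω h2} : Set (GL F9 F)))
  have hset : ((↑) : ↥(G₂ hω h2) → GL F9 F) ⁻¹' ({aΓ hω h2, bΓ hω h2} : Set (GL F9 F)) =
      {aE hω h2, bE hω h2} := by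
    ext x
    simp only [Set.mem_preimage, Set.mem_insert_iff, Set.mem_singleton_iff, Subtype.ext_iff]
    rfl
  rw [← hset]
  exact h

/-! ### registers -/

/-- the registers of group elements have the registers of codes -/
def RegsOK : List ↥(G₂ hω h2) → List ℕ → Prop := List.Forall₂ (HasCode hω h2)

variable {hω h2}

theorem RegsOK.getD {gs : List ↥(G₂ hω h2)} {cs : List ℕ} (h : RegsOK hω h2 gs cs) (i : ℕ) :
    HasCode hω h2 (gs.getD i 1) (cs.getD i lone) := by
  induction h generalizing i with
  | nil => simpa using hasCode_one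
  | cons hd _ ih =>
    cases i with
    | zero => simpa using hd
    | succ i => simpa using ih i

theorem RegsOK.run {is : List (ℕ × ℕ)} : ∀ {gs : List ↥(G₂ hω h2)} {cs : List ℕ},
    RegsOK hω h2 gs cs → RegsOK hω h2 (runM is gs) (run is cs) := by
  induction is with
  | nil => intro gs cs h; exact h
  | cons ij is ih =>
    intro gs cs h
    rw [run_cons, runM]
    exact ih (List.Forall₂.cons ((h.getD ij.1).mul (h.getD ij.2)) h)

end

end Cfsg.Agent.J3O
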