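import Cfsg.Agent.Lib.Lead.J3.Conds

/-! # The class of involutions of 3·J₃: the checks for part 10 of the search trees (generated) -/

set_option autoImplicit false
set_option maxRecDepth 100000

namespace Cfsg.Agent.J3O

theorem chk_conj_10 : CT.all pconj T10 = true := by decide +kernel

theorem chk_len_10 : (CT.filterL ptrue T10).length = 1636 := by decide +kernel

theorem chk_c6_10 : (CT.filterL cond6 T10).length = 53 := by decide +kernel

theorem chk_c3_10 : (CT.filterL cond3 T10).length = 0 := by decide +kernel

end Cfsg.Agent.J3O
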