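import Cfsg.Agent.Lib.Lead.J3.Conds

/-! # Small checks for the three involutions of 3·J₃ and for the Sylow 2-subgroup -/

set_option autoImplicit false
set_option maxRecDepth 100000

namespace Cfsg.Agent.J3O

open Cfsg.Agent.Lib.Helper6.Cod Cfsg.Agent.Lib.Helper6.F4 Cfsg.Agent.Lib.Helper6.J3

theorem chk_w2 : evalW lmul lone codesX w2 = c2 := by decide +kernel

theorem chk_w3 : evalW lmul lone codesX w3 = c3 := by decide +kernel

theorem chk_sq : lmul ca ca = lone ∧ lmul c2 c2 = lone ∧ lmul c3 c3 = lone := by decide +kernel

theorem chk_ns : isScal ca = false ∧ isScal c2 = false ∧ isScal c3 = false := by decide +kernel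

theorem chk_cond6 : cond6 c2 = true := by decide +kernel

theorem chk_cond3 : cond3 c3 = true := by decide +kernel

theorem chk_gen : isScal (lmul ((run slpG [c3, c2, ca]).getD 0 lone) cbi) = true := by decide +kernel

theorem chk_bi : lmul cb cbi = lone := by decide +kernel

/-- the involutions of the Sylow 2-subgroup are in the trees -/
theorem chk_S0 : sylD2.all (fun d => Nat.beq d.1 lone || (!(Nat.beq (lmul d.1 d.1) lone) || memF d.1)) =
    true := by decide +kernel

end Cfsg.Agent.J3O
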