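import Cfsg.Agent.Lib.Lead.J3.TreeD0
import Cfsg.Agent.Lib.Lead.J3.TreeD1
import Cfsg.Agent.Lib.Lead.J3.TreeD2
import Cfsg.Agent.Lib.Lead.J3.TreeD3
import Cfsg.Agent.Lib.Lead.J3.TreeD4
import Cfsg.Agent.Lib.Lead.J3.TreeD5
import Cfsg.Agent.Lib.Lead.J3.TreeD6
import Cfsg.Agent.Lib.Lead.J3.TreeD7
import Cfsg.Agent.Lib.Lead.J3.TreeD8
import Cfsg.Agent.Lib.Lead.J3.TreeD9
import Cfsg.Agent.Lib.Lead.J3.TreeD10
import Cfsg.Agent.Lib.Lead.J3.TreeD11
import Cfsg.Agent.Lib.Lead.J3.TreeD12
import Cfsg.Agent.Lib.Lead.J3.TreeD13
import Cfsg.Agent.Lib.Lead.J3.TreeD14
import Cfsg.Agent.Lib.Lead.J3.TreeD15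

/-!
# The search trees of the codes of the involutions of 3·J₃, as a list

Each tree comes with an upper bound for its numbers; the membership test finds the first tree whose bound admits
the number and descends there.
-/

set_option autoImplicit false

namespace Cfsg.Agent.J3O

open CT

/-- the trees, with their upper bounds -/
def forest : List (ℕ × CT) :=
  [(127768609863333271321355267161236240220390083872, T0),
  (299305636224492962073267735275028529615272139075, T1),
  (491488459670992494678254281016399218581617759094, T2),
  (697567909451486758553674509053763209073994446685, T3),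
  (880876350104740146382754079867616228606120792311, T4),
  (1074686386545955001896001483139885945112067464136, T5),
  (1257824467216787867077576028358153666509120920581, T6),
  (1450520815181186449796879497739425850026296661185, T7),
  (1640829481786698321840349625650560713906164308339, T8),
  (1823562354054002655044670509885610307495145735221, T9),
  (2015409972078975666379127197875463526367226416336, T10),
  (2199201812182203894551339514013419462022711217221, T11),
  (2405801274495361478513295062863301350223554825029, T12),
  (2599570451015679914648115014727937854835594692580, T13),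
  (2758502165733548868557992103158079038566127021215, T14),
  (2920099291145771135052303764116980233786350899012, T15)]

/-- a number of one of the trees -/
def InF (c : ℕ) : Prop := ∃ bt ∈ forest, In c bt.2

/-- the membership test in a list of trees with bounds -/
def memL (c : ℕ) : List (ℕ × CT) → Bool
  | [] => false
  | bt :: l => cond (Nat.ble c bt.1) (mem c bt.2) (memL c l)

/-- the membership test -/
def memF (c : ℕ) : Bool := memL c forest

theorem memL_sound {c : ℕ} : ∀ {l : List (ℕ × CT)}, memL c l = true → ∃ bt ∈ l, In c bt.2
  | [], h => by simp [memL] at h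
  | bt :: l, h => by
    rw [memL] at h
    cases hb : Nat.ble c bt.1
    · rw [hb, cond_false] at h
      obtain ⟨bt', h1, h2⟩ := memL_sound h
      exact ⟨bt', List.mem_cons_of_mem _ h1, h2⟩
    · rw [hb, cond_true] at h
      exact ⟨bt, List.mem_cons_self, mem_sound h⟩

theorem memF_sound {c : ℕ} (h : memF c = true) : InF c := memL_sound h

/-- the universal test on all trees -/
def allF (p : ℕ → Bool) : Bool := forest.all fun bt => all p bt.2

theorem allF_sound {p : ℕ → Bool} (h : allF p = true) {c : ℕ} (hc : InF c) : p c = true := by
  obtain ⟨bt, h1, h2⟩ := hc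
  exact all_sound (List.all_eq_true.1 h bt h1) h2

/-- the numbers of all trees satisfying a test -/
def filterF (p : ℕ → Bool) : List ℕ := forest.flatMap fun bt => filterL p bt.2

theorem mem_filterF {p : ℕ → Bool} {c : ℕ} (hc : InF c) (hp : p c = true) : c ∈ filterF p := by
  obtain ⟨bt, h1, h2⟩ := hc
  exact List.mem_flatMap.2 ⟨bt, h1, mem_filterL h2 hp⟩

theorem length_filterF (p : ℕ → Bool) :
    (filterF p).length = (forest.map fun bt => (filterL p bt.2).length).sum := by
  rw [filterF, List.length_flatMap]

end Cfsg.Agent.J3O
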