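import Cfsg.Agent.Lib.Lead.J3.Quot
import Cfsg.Agent.Lib.Lead.J3.Forest

/-!
# The tests on the codes of the involutions of 3·J₃

Three involutions `z`, `z₂`, `z₃` generate the group modulo the centre.  The tests express, for a candidate image of
`z₂` (resp. `z₃`) under an automorphism fixing `z` (resp. `z` and `z₂`), relations modulo the centre which the
image must satisfy.
-/

set_option autoImplicit false
set_option linter.unusedSectionVars false

namespace Cfsg.Agent.J3O

open Cfsg.Spor Cfsg.Agent.Lib.Helper6.Cod Cfsg.Agent.Lib.Helper6.F4 Cfsg.Agent.Lib.Helper6.J3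

/-- the code of the second involution -/
def c2 : ℕ := 1269600889082452815690290794559031703846596801279
/-- the code of the third involution -/
def c3 : ℕ := 22925428679514185687861630358467325073483034659
/-- the word of the second involution -/
def w2 : List ℕ := [2, 2, 0, 2, 2, 0, 3, 3, 0, 3, 3]
/-- the word of the third involution -/
def w3 : List ℕ := [3, 3, 3, 0, 2, 0, 2, 0, 3, 3, 0, 3, 0, 2, 0, 3, 0, 2, 0, 2, 2, 0, 3, 0, 3, 0, 2, 2, 2]

/-- evaluation of a list argument before application -/
def strictL {α : Type*} (R : List ℕ) (f : List ℕ → α) : α :=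
  match R with
  | [] => f []
  | x :: xs => f (x :: xs)

theorem strictL_eq {α : Type*} (R : List ℕ) (f : List ℕ → α) : strictL R f = f R := by
  cases R <;> rfl

/-- a test: run a straight line program and compare the scalar tests of some registers with given values -/
def condOf (is : List (ℕ × ℕ)) (ts : List (ℕ × Bool)) (cs : List ℕ) : Bool :=
  strictL (run is cs) fun R => ts.all fun t => isScal (R.getD t.1 lone) == t.2

/-- the program for the product `z x`: its second, third and sixth powers -/
def slp6 : List (ℕ × ℕ) := [(1, 0), (0, 0), (0, 1), (0, 0)]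
/-- `(z x) ^ 6` is a scalar, `(z x) ^ 3` and `(z x) ^ 2` are not -/
def tests6 : List (ℕ × Bool) := [(0, true), (1, false), (2, false)]
/-- the test for the images of the second involution -/
def cond6 (c : ℕ) : Bool := condOf slp6 tests6 [c, ca]

/-- the program for the cube of `z x` -/
def slpA : List (ℕ × ℕ) := [(2, 0), (0, 0), (0, 1)]
/-- the program for `(z z₂ z z₂ x) ^ 8`, `(z z₂ x z₂ x) ^ 9`, `(z x z₂ x) ^ 10` -/
def slpB : List (ℕ × ℕ) := [(2, 1), (0, 0), (0, 2), (0, 0), (0, 0), (0, 0), (7, 6), (0, 0), (10, 0), (0, 0), (0, 0), (0, 0), (0, 3), (15, 13), (0, 7), (0, 0), (0, 0), (0, 2), (0, 0)]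
/-- the three powers are scalars -/
def testsB : List (ℕ × Bool) := [(13, true), (6, true), (0, true)]
/-- the first test for the images of the third involution -/
def condA (c : ℕ) : Bool := condOf slpA [(0, true)] [c, c2, ca]
/-- the second test for the images of the third involution -/
def condB (c : ℕ) : Bool := condOf slpB testsB [c, c2, ca]
/-- the test for the images of the third involution -/
def cond3 (c : ℕ) : Bool := condA c && condB c

/-- the program of a word in the three involutions which is the second generator up to a scalar -/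
def slpG : List (ℕ × ℕ) := [(1, 2), (0, 2), (0, 4), (0, 4), (0, 4), (0, 6), (0, 6), (0, 8), (0, 10), (0, 9), (0, 11), (0, 11), (0, 13), (0, 15), (0, 14), (0, 17), (0, 17), (0, 17), (0, 19), (0, 19), (0, 21), (0, 21), (0, 23), (0, 23), (0, 25), (0, 25), (0, 28), (0, 28), (0, 30)]

/-- the test of closure under conjugation by the two generators -/
def pconj (c : ℕ) : Bool := memF (lmul (lmul ca c) ca) && memF (lmul (lmul cb c) cbi)

/-- the trivial test -/
def ptrue (_ : ℕ) : Bool := true

section

variable {F : Type*} [Field F] [Finite F] {ω : F} {hω : ω ^ 2 + ω + 1 = 0} {h2 : (2 : F) = 0}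

theorem condOf_transfer (φ : Q hω h2 ≃* Q hω h2) {gs gs' : List ↥(G₂ hω h2)} {cs cs' : List ℕ}
    (h : RegsOK hω h2 gs cs) (h' : RegsOK hω h2 gs' cs')
    (hφ : (gs.map (π hω h2)).map φ = gs'.map (π hω h2)) (is : List (ℕ × ℕ)) (ts : List (ℕ × Bool)) :
    condOf is ts cs = condOf is ts cs' := by
  rw [condOf, condOf, strictL_eq, strictL_eq]
  congr 1
  funext t
  rw [isScal_transfer φ h h' hφ is t.1]

end

end Cfsg.Agent.J3O
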