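import Cfsg.Agent.Lib.Lead.J3.SylX
import Cfsg.Agent.Lib.Lead.J3.ChkMisc

/-!
# Every involution of 3·J₃ has its code in the trees

The involutions of a Sylow 2-subgroup have their codes in the trees, the trees are closed under conjugation by
the two generators, and every involution is conjugate into the Sylow 2-subgroup.
-/

set_option autoImplicit false
set_option linter.unusedSectionVars false

namespace Cfsg.Agent.J3O

open Cfsg.Spor Cfsg.Agent.Lib.Helper6.Cod Cfsg.Agent.Lib.Helper6.F4 Cfsg.Agent.Lib.Helper6.J3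

section

variable {F : Type*} [Field F] [Finite F] {ω : F} {hω : ω ^ 2 + ω + 1 = 0} {h2 : (2 : F) = 0}

theorem eq_one_of_code {g : ↥(G₂ hω h2)} (h : HasCode hω h2 g lone) : g = 1 := h.elt_eq hasCode_one

theorem aE_mul_self : aE hω h2 * aE hω h2 = 1 := by
  apply eq_one_of_code
  have := (hasCode_a hω h2).mul (hasCode_a hω h2)
  rwa [chk_sq.1] at this

theorem hasCode_ai : HasCode hω h2 (aE hω h2)⁻¹ ca := by
  rw [inv_eq_of_mul_eq_one_right aE_mul_self]
  exact hasCode_a hω h2

theorem hasCode_bi : HasCode hω h2 (bE hω h2)⁻¹ cbi := ⟨rfl, by norm_num [cbi]⟩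

variable (hall : allF pconj = true)

include hall in
theorem conj_closed (g : ↥(G₂ hω h2)) : ∀ {x : ↥(G₂ hω h2)} {c : ℕ}, HasCode hω h2 x c → InF c →
    ∃ c', InF c' ∧ HasCode hω h2 (g * x * g⁻¹) c' := by
  have hg : g ∈ Submonoid.closure ({aE hω h2, bE hω h2} : Set ↥(G₂ hω h2)) := by
    rw [← Subgroup.closure_toSubmonoid_of_finite, closure_ab]
    exact Subgroup.mem_top g
  induction hg using Submonoid.closure_induction with
  | mem y hy =>
    intro x c hx hc
    have hp := allF_sound hall hc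
    rw [pconj, Bool.and_eq_true] at hp
    rcases hy with rfl | rfl
    · exact ⟨_, memF_sound hp.1, ((hasCode_a hω h2).mul hx).mul hasCode_ai⟩
    · exact ⟨_, memF_sound hp.2, ((hasCode_b hω h2).mul hx).mul hasCode_bi⟩
  | one =>
    intro x c hx hc
    exact ⟨c, hc, by simpa using hx⟩
  | mul u v _ _ hu hv =>
    intro x c hx hc
    obtain ⟨c1, hc1, hx1⟩ := hv hx hc
    obtain ⟨c2, hc2, hx2⟩ := hu hx1 hc1
    refine ⟨c2, hc2, ?_⟩
    have e : u * v * x * (u * v)⁻¹ = u * (v * x * v⁻¹) * u⁻¹ := by group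
    rw [e]
    exact hx2

include hall in
/-- every involution has its code in the trees -/
theorem all_inv (y : ↥(G₂ hω h2)) (hy : y ^ 2 = 1) (hne : y ≠ 1) :
    ∃ c, InF c ∧ HasCode hω h2 y c := by
  have : Fact (Nat.Prime 2) := ⟨Nat.prime_two⟩
  obtain ⟨P, hP⟩ := exists_sylow2 hω h2
  have ho : orderOf y = 2 := orderOf_eq_prime hy hne
  have hpg : IsPGroup 2 (Subgroup.zpowers y) := by
    apply IsPGroup.of_card (n := 1)
    rw [Nat.card_zpowers, ho, pow_one]
  obtain ⟨P', hP'⟩ := hpg.exists_le_sylow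
  obtain ⟨g, hg⟩ := MulAction.exists_smul_eq ↥(G₂ hω h2) P' P
  have hy' : y ∈ (P' : Subgroup ↥(G₂ hω h2)) := hP' (Subgroup.mem_zpowers y)
  have hs : g * y * g⁻¹ ∈ (P : Subgroup ↥(G₂ hω h2)) := by
    rw [← hg, Sylow.coe_subgroup_smul, Subgroup.mem_smul_pointwise_iff_exists]
    exact ⟨y, hy', rfl⟩
  obtain ⟨d, hd, hcode⟩ := hP _ hs
  have hd' := List.all_eq_true.1 chk_S0 d hd
  rw [Bool.or_eq_true, Bool.or_eq_true] at hd'
  have hin : InF d.1 := by
    rcases hd' with h | h | h
    · exfalso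
      have h1 : d.1 = lone := Nat.eq_of_beq_eq_true h
      rw [h1] at hcode
      have h3 := eq_one_of_code hcode
      apply hne
      have : y = g⁻¹ * (g * y * g⁻¹) * g := by group
      rw [this, h3]; group
    · exfalso
      have h1 : (g * y * g⁻¹) * (g * y * g⁻¹) = 1 := by
        have : (g * y * g⁻¹) * (g * y * g⁻¹) = g * (y * y) * g⁻¹ := by group
        rw [this, ← pow_two, hy]; group
      have h3 := (hcode.mul hcode).code_eq (h1 ▸ hasCode_one)
      rw [h3] at h
      simp at h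
    · exact memF_sound h
  obtain ⟨c', hc', hx'⟩ := conj_closed hall g⁻¹ hcode hin
  refine ⟨c', hc', ?_⟩
  have e : g⁻¹ * (g * y * g⁻¹) * g⁻¹⁻¹ = y := by group
  rwa [e] at hx'

end

end Cfsg.Agent.J3O
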