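import Cfsg.Agent.Lib.Lead.J3.Frob
import Cfsg.Agent.Lib.Lead.J3.Inv

/-!
# An automorphism of J₃ which is not inner

The entrywise square followed by conjugation with a suitable matrix is an automorphism of 3·J₃ which inverts the
centre.  The induced automorphism of the central quotient is not inner: otherwise the automorphism of 3·J₃ would
differ from an inner one by a homomorphism into the centre, whose kernel is everything, so that the centre would
be fixed pointwise.
-/

set_option autoImplicit false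
set_option linter.unusedSectionVars false

namespace Cfsg.Agent.J3O

open Cfsg.Spor Cfsg.Agent.Lib.Helper6.Cod Cfsg.Agent.Lib.Helper6.F4 Cfsg.Agent.Lib.Helper6.J3

/-- the code of the conjugating matrix -/
def cP : ℕ := 2525028276652054263764965968881659239518201878526
/-- the code of its inverse -/
def cPi : ℕ := 314016620331231633954158450101452682987588231401
/-- the word of the image of the second generator -/
def wb' : List ℕ := [2, 2, 2, 2, 0, 2, 2, 2, 2, 0, 2, 2, 2, 2, 2, 2, 2, 2, 0, 2, 2, 2, 2, 0, 2, 2, 2, 2]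

set_option maxRecDepth 100000 in
theorem chk_P : lmul cP cPi = lone ∧ lmul cPi cP = lone ∧
    lmul (lmul cP (frobC ca)) cPi = ca ∧
    lmul (lmul cP (frobC cb)) cPi = evalW lmul lone codesX wb' ∧
    lmul (lmul cP (frobC cz)) cPi = cz2 := by decide +kernel

theorem chk_zz : cz ≠ cz2 := by decide +kernel

section

variable {F : Type*} [Field F] [Finite F] {ω : F} (hω : ω ^ 2 + ω + 1 = 0) (h2 : (2 : F) = 0)

/-- the conjugating matrix -/
def Pu : GL F9 F := unitOf hω h2 cP cPi chk_P.1 chk_P.2.1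

/-- the entrywise square followed by the conjugation -/
def α₀ : GL F9 F →* GL F9 F :=
  (MulAut.conj (Pu hω h2)).toMonoidHom.comp (Matrix.GeneralLinearGroup.map (sqHom h2))

theorem ι_map (g : GL F9 F) :
    ι F (Matrix.GeneralLinearGroup.map (sqHom h2) g) = (ι F g).map (sqHom h2) := rfl

theorem ι_α₀ (g : GL F9 F) (c : ℕ) (hg : ι F g = den F ω c) :
    ι F (α₀ hω h2 g) = den F ω (lmul (lmul cP (frobC c)) cPi) := by
  show ι F (Pu hω h2 * Matrix.GeneralLinearGroup.map (sqHom h2) g * (Pu hω h2)⁻¹) = _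
  rw [map_mul, map_mul, ι_map, hg, ← den_frobC hω h2, den_mul hω h2, den_mul hω h2]
  rfl

theorem α₀_injective : Function.Injective (α₀ hω h2) := by
  rw [injective_iff_map_eq_one]
  intro g hg
  have h1 : Matrix.GeneralLinearGroup.map (sqHom h2) g = 1 := by
    have : Pu hω h2 * Matrix.GeneralLinearGroup.map (sqHom h2) g * (Pu hω h2)⁻¹ = 1 := hg
    rw [mul_inv_eq_one] at this
    exact mul_left_cancel (this.trans (mul_one _).symm)
  apply Units.ext
  ext i j
  apply (sqHom h2).injective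
  have := congrArg (fun m : GL F9 F => m i j) h1
  simp only [Matrix.GeneralLinearGroup.map_apply] at this
  rw [this]
  show (1 : Matrix F9 F9 F) i j = sqHom h2 ((1 : Matrix F9 F9 F) i j)
  by_cases hij : i = j
  · subst hij
    rw [Matrix.one_apply_eq, map_one]
  · rw [Matrix.one_apply_ne hij, map_zero]

theorem α₀_a : α₀ hω h2 (aΓ hω h2) = aΓ hω h2 := by
  apply ι_inj
  rw [ι_α₀ hω h2 (aΓ hω h2) ca rfl, chk_P.2.2.1]
  rfl

theorem α₀_b_mem : α₀ hω h2 (bΓ hω h2) ∈ G₂ hω h2 := by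
  apply mem_of_code hω h2 _ wb'
  have := ι_α₀ hω h2 (bΓ hω h2) cb rfl
  rw [chk_P.2.2.2.1] at this
  exact this

theorem α₀_mem (g : GL F9 F) (hg : g ∈ G₂ hω h2) : α₀ hω h2 g ∈ G₂ hω h2 := by
  have hle : Subgroup.closure {aΓ hω h2, bΓ hω h2} ≤ (G₂ hω h2).comap (α₀ hω h2) := by
    rw [Subgroup.closure_le]
    rintro t (rfl | rfl)
    · show α₀ hω h2 (aΓ hω h2) ∈ G₂ hω h2
      rw [α₀_a]
      exact aΓ_mem hω h2
    · exact α₀_b_mem hω h2
  exact hle hg

/-- the restriction to 3·J₃ -/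
def α₁ : ↥(G₂ hω h2) →* ↥(G₂ hω h2) :=
  ((α₀ hω h2).comp (G₂ hω h2).subtype).codRestrict (G₂ hω h2) fun x => α₀_mem hω h2 x.1 x.2

theorem α₁_val (x : ↥(G₂ hω h2)) : (α₁ hω h2 x).1 = α₀ hω h2 x.1 := rfl

theorem α₁_injective : Function.Injective (α₁ hω h2) := by
  intro x y h
  apply Subtype.ext
  apply α₀_injective hω h2
  rw [← α₁_val, ← α₁_val, h]

/-- the automorphism of 3·J₃ -/
noncomputable def αE : ↥(G₂ hω h2) ≃* ↥(G₂ hω h2) :=
  MulEquiv.ofBijective (α₁ hω h2)
    ⟨α₁_injective hω h2, Finite.injective_iff_surjective.1 (α₁_injective hω h2)⟩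

theorem αE_apply (x : ↥(G₂ hω h2)) : αE hω h2 x = α₁ hω h2 x := rfl

variable {hω h2}

theorem hasCode_αE {x : ↥(G₂ hω h2)} {c : ℕ} (hx : HasCode hω h2 x c) :
    HasCode hω h2 (αE hω h2 x) (lmul (lmul cP (frobC c)) cPi) :=
  ⟨ι_α₀ hω h2 x.1 c hx.1, lmul_lt _ _⟩

variable (hω h2)

theorem αE_z : αE hω h2 (zG hω h2) = zG hω h2 * zG hω h2 := by
  have h1 := hasCode_αE (hasCode_z hω h2)
  rw [chk_P.2.2.2.2] at h1
  have h3 := (hasCode_z hω h2).mul (hasCode_z hω h2)
  rw [chk_cz.2] at h3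
  exact h1.elt_eq h3

theorem map_center : (Subgroup.center ↥(G₂ hω h2)).map (αE hω h2 : ↥(G₂ hω h2) →* ↥(G₂ hω h2)) =
    Subgroup.center ↥(G₂ hω h2) :=
  Subgroup.characteristic_iff_map_eq.1 Subgroup.centerCharacteristic (αE hω h2)

/-- the automorphism of the central quotient -/
noncomputable def αQ : MulAut (Q hω h2) :=
  QuotientGroup.congr _ _ (αE hω h2) (map_center hω h2)

theorem αQ_π (x : ↥(G₂ hω h2)) : αQ hω h2 (π hω h2 x) = π hω h2 (αE hω h2 x) := rfl

/-- the automorphism of the central quotient is not inner -/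
theorem αQ_not_inner (q : Q hω h2) : αQ hω h2 ≠ MulAut.conj q := by
  intro hq
  obtain ⟨g, rfl⟩ := π_surjective hω h2 q
  -- the difference is central
  have hcen : ∀ x : ↥(G₂ hω h2), (g * x * g⁻¹)⁻¹ * αE hω h2 x ∈ Subgroup.center ↥(G₂ hω h2) := by
    intro x
    rw [← QuotientGroup.eq_one_iff]
    have h1 : αQ hω h2 (π hω h2 x) = π hω h2 g * π hω h2 x * (π hω h2 g)⁻¹ := by
      rw [hq]; rfl
    rw [αQ_π] at h1
    show π hω h2 ((g * x * g⁻¹)⁻¹ * αE hω h2 x) = 1
    rw [map_mul, h1, map_inv, map_mul, map_mul, map_inv]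
    group
  -- it is a homomorphism
  let ζ : ↥(G₂ hω h2) →* ↥(G₂ hω h2) := MonoidHom.mk' (fun x => (g * x * g⁻¹)⁻¹ * αE hω h2 x) (by
    intro x y
    have hx := Subgroup.mem_center_iff.1 (hcen x)
    show (g * (x * y) * g⁻¹)⁻¹ * αE hω h2 (x * y) =
      (g * x * g⁻¹)⁻¹ * αE hω h2 x * ((g * y * g⁻¹)⁻¹ * αE hω h2 y)
    rw [map_mul]
    have e1 : (g * (x * y) * g⁻¹)⁻¹ * (αE hω h2 x * αE hω h2 y) =
        (g * y * g⁻¹)⁻¹ * ((g * x * g⁻¹)⁻¹ * αE hω h2 x) * αE hω h2 y := by group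
    rw [e1, hx ((g * y * g⁻¹)⁻¹), mul_assoc])
  have hζ : ∀ x, ζ x = (g * x * g⁻¹)⁻¹ * αE hω h2 x := fun _ => rfl
  -- its kernel is everything
  have hker : ζ.ker = ⊤ := by
    by_contra hne
    have hle := proper_normal hω h2 ζ.ker inferInstance hne
    rw [← center_eq] at hle
    have h3 : (aE hω h2) ^ 3 ∈ ζ.ker := by
      rw [MonoidHom.mem_ker, map_pow]
      have := pow_card_eq_one' (G := Subgroup.center ↥(G₂ hω h2))
        (x := ⟨ζ (aE hω h2), hcen (aE hω h2)⟩)
      rw [card_center] at this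
      exact congrArg Subtype.val this
    have h4 : (aE hω h2) ^ 3 = aE hω h2 := by
      rw [pow_succ, pow_two, aE_mul_self, one_mul]
    rw [h4] at h3
    have h5 := (mem_center_iff (hasCode_a hω h2)).1 (hle h3)
    rw [chk_ns.1] at h5
    exact absurd h5 (by simp)
  -- hence the centre is fixed
  have hz : ζ (zG hω h2) = 1 := by
    have : zG hω h2 ∈ ζ.ker := by rw [hker]; exact Subgroup.mem_top _
    exact this
  rw [hζ, αE_z, inv_mul_eq_one] at hz
  have hzc : g * zG hω h2 * g⁻¹ = zG hω h2 := by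
    have := (Subgroup.mem_center_iff.1 (zpowers_le_center hω h2 (Subgroup.mem_zpowers _))) g
    rw [this, mul_inv_cancel_right]
  rw [hzc] at hz
  have h6 := ((hasCode_z hω h2).mul (hasCode_z hω h2)).code_eq (hz ▸ hasCode_z hω h2)
  rw [chk_cz.2] at h6
  exact chk_zz h6.symm

end

end Cfsg.Agent.J3O
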