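import Cfsg.Agent.Lib.Lead.J3.Inv

/-!
# The automorphism group of J₃ has order at most 100465920

An automorphism of the central quotient is determined by the images of three involutions; the first has at most
26163 images, the second, given the first, at most 960, and the third, given the first two, at most 4.
-/

set_option autoImplicit false
set_option linter.unusedSectionVars false

namespace Cfsg.Agent.J3O

open Cfsg.Spor Cfsg.Agent.Lib.Helper6.Cod Cfsg.Agent.Lib.Helper6.F4 Cfsg.Agent.Lib.Helper6.J3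

/-! ### a counting lemma -/

section count

variable {A X : Type*} [Group A] [Finite A] [MulAction A X] [DecidableEq X]

theorem card_le_step (B : Subgroup A) (x : X) (S : Finset X) (h : ∀ b ∈ B, b • x ∈ S) :
    ∃ B' : Subgroup A, (∀ b, b ∈ B' ↔ b ∈ B ∧ b • x = x) ∧ Nat.card B ≤ S.card * Nat.card B' := by
  refine ⟨(MulAction.stabilizer B x).map B.subtype, ?_, ?_⟩
  · intro b
    constructor
    · rintro ⟨c, hc, rfl⟩
      exact ⟨c.2, MulAction.mem_stabilizer_iff.1 hc⟩
    · rintro ⟨hb, hx⟩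
      exact ⟨⟨b, hb⟩, MulAction.mem_stabilizer_iff.2 hx, rfl⟩
  · have h1 := Subgroup.card_mul_index (MulAction.stabilizer B x)
    have h2 : (MulAction.stabilizer B x).index = (MulAction.orbit B x).ncard :=
      MulAction.index_stabilizer B x
    have h3 : (MulAction.orbit B x).ncard ≤ S.card := by
      rw [← Set.ncard_coe_finset S]
      apply Set.ncard_le_ncard _ (Finset.finite_toSet S)
      rintro y ⟨b, rfl⟩
      exact h b.1 b.2
    have h4 : Nat.card ((MulAction.stabilizer B x).map B.subtype) =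
        Nat.card (MulAction.stabilizer B x) :=
      Subgroup.card_map_of_injective B.subtype_injective
    rw [h4, ← h1, h2, mul_comm]
    exact Nat.mul_le_mul_right _ h3

end count

section

variable {F : Type*} [Field F] [Finite F] {ω : F} (hω : ω ^ 2 + ω + 1 = 0) (h2 : (2 : F) = 0)

/-- the second involution -/
def e2 : ↥(G₂ hω h2) := elt hω h2 w2
/-- the third involution -/
def e3 : ↥(G₂ hω h2) := elt hω h2 w3

theorem hasCode_e2 : HasCode hω h2 (e2 hω h2) c2 := by
  have := hasCode_elt hω h2 w2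
  rwa [chk_w2] at this

theorem hasCode_e3 : HasCode hω h2 (e3 hω h2) c3 := by
  have := hasCode_elt hω h2 w3
  rwa [chk_w3] at this

/-- the images of the three involutions -/
noncomputable def q1 : Q hω h2 := π hω h2 (aE hω h2)
noncomputable def q2 : Q hω h2 := π hω h2 (e2 hω h2)
noncomputable def q3 : Q hω h2 := π hω h2 (e3 hω h2)

variable {hω h2}

variable (hall : allF pconj = true)

include hall in
/-- the image of an involution under an automorphism is the image of an involution with its code in the trees -/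
theorem aut_inv_code (φ : MulAut (Q hω h2)) {x : ↥(G₂ hω h2)} {cx : ℕ} (hx : HasCode hω h2 x cx)
    (hsq : lmul cx cx = lone) (hns : isScal cx = false) :
    ∃ (y : ↥(G₂ hω h2)) (c : ℕ), InF c ∧ HasCode hω h2 y c ∧ π hω h2 y = φ (π hω h2 x) := by
  have hxx : x * x = 1 := by
    apply eq_one_of_code
    have := hx.mul hx
    rwa [hsq] at this
  have hq : (φ (π hω h2 x)) ^ 2 = 1 := by
    rw [← map_pow, ← map_pow, pow_two, hxx, map_one, map_one]
  obtain ⟨y, hy, hπ⟩ := inv_lift hω h2 _ hq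
  have hne : y ≠ 1 := by
    rintro rfl
    rw [map_one] at hπ
    have h1 : π hω h2 x = 1 := by
      apply φ.injective
      rw [← hπ, map_one]
    rw [π_eq_one_iff hx, hns] at h1
    exact absurd h1 (by simp)
  obtain ⟨c, hc, hyc⟩ := all_inv hall y hy hne
  exact ⟨y, c, hc, hyc, hπ⟩

theorem smul_eq (φ : MulAut (Q hω h2)) (x : Q hω h2) : φ • x = φ x := rfl

/-- an automorphism fixing the images of the three involutions is trivial -/
theorem aut_eq_one (φ : MulAut (Q hω h2)) (h1 : φ (q1 hω h2) = q1 hω h2)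
    (h2' : φ (q2 hω h2) = q2 hω h2) (h3 : φ (q3 hω h2) = q3 hω h2) : φ = 1 := by
  -- the word
  have hregs : RegsOK hω h2 [e3 hω h2, e2 hω h2, aE hω h2] [c3, c2, ca] :=
    List.Forall₂.cons (hasCode_e3 hω h2) (List.Forall₂.cons (hasCode_e2 hω h2)
      (List.Forall₂.cons (hasCode_a hω h2) List.Forall₂.nil))
  have hW := (hregs.run (is := slpG)).getD 0
  have hWb := hW.mul (hasCode_bi (hω := hω) (h2 := h2))
  have h4 : π hω h2 ((runM slpG [e3 hω h2, e2 hω h2, aE hω h2]).getD 0 1 * (bE hω h2)⁻¹) = 1 :=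
    (π_eq_one_iff hWb).2 chk_gen
  have h5 : π hω h2 ((runM slpG [e3 hω h2, e2 hω h2, aE hω h2]).getD 0 1) = π hω h2 (bE hω h2) := by
    rw [map_mul, map_inv, mul_inv_eq_one] at h4
    exact h4
  have h6 : π hω h2 ((runM slpG [e3 hω h2, e2 hω h2, aE hω h2]).getD 0 1) =
      (runM slpG [q3 hω h2, q2 hω h2, q1 hω h2]).getD 0 1 := by
    have := List.getD_map (f := (π hω h2 : ↥(G₂ hω h2) → Q hω h2))
      (l := runM slpG [e3 hω h2, e2 hω h2, aE hω h2]) (n := 0) (d := 1)
    rw [map_one, map_runM] at this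
    exact this.symm
  have h7 : φ ((runM slpG [q3 hω h2, q2 hω h2, q1 hω h2]).getD 0 1) =
      (runM slpG [q3 hω h2, q2 hω h2, q1 hω h2]).getD 0 1 := by
    have := List.getD_map (f := (φ : Q hω h2 → Q hω h2))
      (l := runM slpG [q3 hω h2, q2 hω h2, q1 hω h2]) (n := 0) (d := 1)
    rw [map_one] at this
    rw [← this]
    have e := map_runM φ.toMonoidHom slpG [q3 hω h2, q2 hω h2, q1 hω h2]
    have e' : [q3 hω h2, q2 hω h2, q1 hω h2].map φ.toMonoidHom =
        [q3 hω h2, q2 hω h2, q1 hω h2] := by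
      show [φ (q3 hω h2), φ (q2 hω h2), φ (q1 hω h2)] = _
      rw [h1, h2', h3]
    rw [e'] at e
    exact congrArg (fun l => l.getD 0 1) e
  have hb : φ (π hω h2 (bE hω h2)) = π hω h2 (bE hω h2) := by
    rw [← h5, h6, h7]
  have hcomp : (φ.toMonoidHom.comp (π hω h2)) = π hω h2 := by
    apply MonoidHom.eq_of_eqOn_dense (closure_ab hω h2)
    intro x hx
    rcases hx with rfl | rfl
    · exact h1
    · exact hb
  refine MulEquiv.ext fun q => ?_
  obtain ⟨x, rfl⟩ := π_surjective hω h2 q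
  exact congrArg (fun f : ↥(G₂ hω h2) →* Q hω h2 => f x) hcomp

variable (hlen : (filterF ptrue).length ≤ 26163) (hc6 : (filterF cond6).length ≤ 960)
  (hc3 : (filterF cond3).length ≤ 4)

include hall hlen hc6 hc3 in
open Classical in
theorem card_aut_le : Nat.card (MulAut (Q hω h2)) ≤ 100465920 := by
  have : Finite (MulAut (Q hω h2)) := Finite.of_injective (fun φ : MulAut (Q hω h2) => (φ : Q hω h2 → Q hω h2))
    (fun a b h => MulEquiv.ext (congrFun h))
  let F0 : Finset (Q hω h2) := ((filterF ptrue).map (qOf hω h2)).toFinset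
  let F1 : Finset (Q hω h2) := ((filterF cond6).map (qOf hω h2)).toFinset
  let F2 : Finset (Q hω h2) := ((filterF cond3).map (qOf hω h2)).toFinset
  have k0 : F0.card ≤ 26163 :=
    (List.toFinset_card_le _).trans (by rw [List.length_map]; exact hlen)
  have k1 : F1.card ≤ 960 :=
    (List.toFinset_card_le _).trans (by rw [List.length_map]; exact hc6)
  have k2 : F2.card ≤ 4 :=
    (List.toFinset_card_le _).trans (by rw [List.length_map]; exact hc3)
  have ra : RegsOK hω h2 [aE hω h2] [ca] :=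
    List.Forall₂.cons (hasCode_a hω h2) List.Forall₂.nil
  -- first step
  obtain ⟨B1, m1, s1⟩ := card_le_step (⊤ : Subgroup (MulAut (Q hω h2))) (q1 hω h2) F0 (by
    intro φ _
    obtain ⟨y, c, hc, hyc, hπ⟩ := aut_inv_code hall φ (hasCode_a hω h2) chk_sq.1 chk_ns.1
    rw [smul_eq, q1, ← hπ, ← qOf_eq hyc]
    exact List.mem_toFinset.2 (List.mem_map.2 ⟨c, mem_filterF hc rfl, rfl⟩))
  -- second step
  obtain ⟨B2, m2, s2⟩ := card_le_step B1 (q2 hω h2) F1 (by
    intro φ hφ
    have f1 : φ (q1 hω h2) = q1 hω h2 := ((m1 φ).1 hφ).2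
    obtain ⟨y, c, hc, hyc, hπ⟩ := aut_inv_code hall φ (hasCode_e2 hω h2) chk_sq.2.1 chk_ns.2.1
    rw [smul_eq, q2, ← hπ, ← qOf_eq hyc]
    refine List.mem_toFinset.2 (List.mem_map.2 ⟨c, mem_filterF hc ?_, rfl⟩)
    have := condOf_transfer φ (gs := [e2 hω h2, aE hω h2]) (gs' := [y, aE hω h2])
      (cs := [c2, ca]) (cs' := [c, ca])
      (List.Forall₂.cons (hasCode_e2 hω h2) ra) (List.Forall₂.cons hyc ra)
      (by
        show [φ (π hω h2 (e2 hω h2)), φ (q1 hω h2)] = [π hω h2 y, q1 hω h2]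
        rw [f1, hπ]) slp6 tests6
    rw [cond6, ← this]
    exact chk_cond6)
  -- third step
  obtain ⟨B3, m3, s3⟩ := card_le_step B2 (q3 hω h2) F2 (by
    intro φ hφ
    have hφ1 : φ ∈ B1 := ((m2 φ).1 hφ).1
    have f1 : φ (q1 hω h2) = q1 hω h2 := ((m1 φ).1 hφ1).2
    have f2 : φ (q2 hω h2) = q2 hω h2 := ((m2 φ).1 hφ).2
    obtain ⟨y, c, hc, hyc, hπ⟩ := aut_inv_code hall φ (hasCode_e3 hω h2) chk_sq.2.2 chk_ns.2.2
    rw [smul_eq, q3, ← hπ, ← qOf_eq hyc]
    refine List.mem_toFinset.2 (List.mem_map.2 ⟨c, mem_filterF hc ?_, rfl⟩)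
    have rb : RegsOK hω h2 [e2 hω h2, aE hω h2] [c2, ca] :=
      List.Forall₂.cons (hasCode_e2 hω h2) ra
    have tr := condOf_transfer φ (gs := [e3 hω h2, e2 hω h2, aE hω h2])
      (gs' := [y, e2 hω h2, aE hω h2]) (cs := [c3, c2, ca]) (cs' := [c, c2, ca])
      (List.Forall₂.cons (hasCode_e3 hω h2) rb) (List.Forall₂.cons hyc rb)
      (by
        show [φ (π hω h2 (e3 hω h2)), φ (q2 hω h2), φ (q1 hω h2)] =
          [π hω h2 y, q2 hω h2, q1 hω h2]
        rw [f1, f2, hπ])
    have := chk_cond3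
    rw [cond3, condA, condB, tr slpA, tr slpB] at this
    exact this)
  -- the last group is trivial
  have hB3 : B3 = ⊥ := by
    rw [Subgroup.eq_bot_iff_forall]
    intro φ hφ
    have hφ2 : φ ∈ B2 := ((m3 φ).1 hφ).1
    have hφ1 : φ ∈ B1 := ((m2 φ).1 hφ2).1
    exact aut_eq_one φ ((m1 φ).1 hφ1).2 ((m2 φ).1 hφ2).2 ((m3 φ).1 hφ).2
  have k3 : Nat.card B3 = 1 := by rw [hB3]; exact Subgroup.card_bot
  rw [← Subgroup.card_top (G := MulAut (Q hω h2))]
  calc Nat.card (⊤ : Subgroup (MulAut (Q hω h2))) ≤ F0.card * Nat.card B1 := s1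
    _ ≤ 26163 * (F1.card * Nat.card B2) := Nat.mul_le_mul k0 s2
    _ ≤ 26163 * (960 * (F2.card * Nat.card B3)) :=
        Nat.mul_le_mul_left _ (Nat.mul_le_mul k1 s3)
    _ ≤ 26163 * (960 * (4 * 1)) := by
        rw [k3]
        exact Nat.mul_le_mul_left _ (Nat.mul_le_mul_left _ (Nat.mul_le_mul_right _ k2))
    _ = 100465920 := by norm_num

end

end Cfsg.Agent.J3O
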