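import Cfsg.Prelude.Def_KGroupFacts
import Cfsg.Agent.Lib.Lead.J3.Upper
import Cfsg.Agent.Lib.Lead.J3.Outer
import Cfsg.Agent.Lib.Lead.J3.Chk0
import Cfsg.Agent.Lib.Lead.J3.Chk1
import Cfsg.Agent.Lib.Lead.J3.Chk2
import Cfsg.Agent.Lib.Lead.J3.Chk3
import Cfsg.Agent.Lib.Lead.J3.Chk4
import Cfsg.Agent.Lib.Lead.J3.Chk5
import Cfsg.Agent.Lib.Lead.J3.Chk6
import Cfsg.Agent.Lib.Lead.J3.Chk7
import Cfsg.Agent.Lib.Lead.J3.Chk8
import Cfsg.Agent.Lib.Lead.J3.Chk9
import Cfsg.Agent.Lib.Lead.J3.Chk10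
import Cfsg.Agent.Lib.Lead.J3.Chk11
import Cfsg.Agent.Lib.Lead.J3.Chk12
import Cfsg.Agent.Lib.Lead.J3.Chk13
import Cfsg.Agent.Lib.Lead.J3.Chk14
import Cfsg.Agent.Lib.Lead.J3.Chk15

/-!
# The outer automorphism group of J₃ has order 2
-/

set_option autoImplicit false
set_option linter.unusedSectionVars false

namespace Cfsg.Agent.J3O

open Cfsg.Spor Cfsg.Agent.Lib.Helper6.Cod Cfsg.Agent.Lib.Helper6.F4 Cfsg.Agent.Lib.Helper6.J3

theorem chk_all : allF pconj = true := by
  rw [allF, forest]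
  simp only [List.all_cons, List.all_nil, chk_conj_0, chk_conj_1, chk_conj_2, chk_conj_3, chk_conj_4, chk_conj_5, chk_conj_6, chk_conj_7, chk_conj_8, chk_conj_9, chk_conj_10, chk_conj_11, chk_conj_12, chk_conj_13, chk_conj_14, chk_conj_15, Bool.and_self]

theorem chk_len : (filterF ptrue).length ≤ 26163 := by
  rw [length_filterF, forest]
  simp only [List.map_cons, List.map_nil, List.sum_cons, List.sum_nil, chk_len_0, chk_len_1, chk_len_2, chk_len_3, chk_len_4, chk_len_5, chk_len_6, chk_len_7, chk_len_8, chk_len_9, chk_len_10, chk_len_11, chk_len_12, chk_len_13, chk_len_14, chk_len_15]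
  norm_num

theorem chk_c6 : (filterF cond6).length ≤ 960 := by
  rw [length_filterF, forest]
  simp only [List.map_cons, List.map_nil, List.sum_cons, List.sum_nil, chk_c6_0, chk_c6_1, chk_c6_2, chk_c6_3, chk_c6_4, chk_c6_5, chk_c6_6, chk_c6_7, chk_c6_8, chk_c6_9, chk_c6_10, chk_c6_11, chk_c6_12, chk_c6_13, chk_c6_14, chk_c6_15]
  norm_num

theorem chk_c3 : (filterF cond3).length ≤ 4 := by
  rw [length_filterF, forest]
  simp only [List.map_cons, List.map_nil, List.sum_cons, List.sum_nil, chk_c3_0, chk_c3_1, chk_c3_2, chk_c3_3, chk_c3_4, chk_c3_5, chk_c3_6, chk_c3_7, chk_c3_8, chk_c3_9, chk_c3_10, chk_c3_11, chk_c3_12, chk_c3_13, chk_c3_14, chk_c3_15]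
  norm_num

/-- the commutator of the two generators is not a scalar -/
theorem chk_comm : isScal (lmul (lmul (lmul ca cb) ca) cbi) = false := by decide +kernel

section

variable {F : Type*} [Field F] [Finite F] {ω : F} (hω : ω ^ 2 + ω + 1 = 0) (h2 : (2 : F) = 0)

theorem card_Q : Nat.card (Q hω h2) = 50232960 := (main_G₂ hω h2).2.2.1

theorem center_Q : Subgroup.center (Q hω h2) = ⊥ := by
  have hs : IsSimpleGroup (Q hω h2) := (main_G₂ hω h2).2.2.2
  rcases hs.eq_bot_or_eq_top_of_normal (Subgroup.center (Q hω h2)) inferInstance with h | h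
  · exact h
  · exfalso
    have h1 : π hω h2 (aE hω h2) ∈ Subgroup.center (Q hω h2) := by rw [h]; exact Subgroup.mem_top _
    have h3 := Subgroup.mem_center_iff.1 h1 (π hω h2 (bE hω h2))
    have hcode := (((hasCode_a hω h2).mul (hasCode_b hω h2)).mul
      (hasCode_ai (hω := hω) (h2 := h2))).mul (hasCode_bi (hω := hω) (h2 := h2))
    have h4 : π hω h2 (aE hω h2 * bE hω h2 * (aE hω h2)⁻¹ * (bE hω h2)⁻¹) = 1 := by
      rw [map_mul, map_mul, map_mul, map_inv, map_inv, ← h3]
      group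
    rw [π_eq_one_iff hcode, chk_comm] at h4
    exact absurd h4 (by simp)

theorem conj_injective : Function.Injective (MulAut.conj : Q hω h2 →* MulAut (Q hω h2)) := by
  rw [injective_iff_map_eq_one]
  intro g hg
  have hc : g ∈ Subgroup.center (Q hω h2) := by
    rw [Subgroup.mem_center_iff]
    intro x
    have := congrArg (fun β : MulAut (Q hω h2) => β x) hg
    simp only [MulAut.conj_apply, MulAut.one_apply] at this
    calc x * g = (g * x * g⁻¹) * g := by rw [this]
      _ = g * x := by group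
  rw [center_Q] at hc
  exact Subgroup.mem_bot.1 hc

theorem card_inn : Nat.card (Cfsg.Inn (Q hω h2)) = 50232960 := by
  have : Nat.card (Cfsg.Inn (Q hω h2)) = Nat.card (Q hω h2) :=
    (Nat.card_congr (MonoidHom.ofInjective (conj_injective hω h2)).toEquiv).symm
  rw [this]
  exact card_Q hω h2

theorem card_out_Q : Nat.card (Cfsg.Out (Q hω h2)) = 2 := by
  have h1 : Nat.card (MulAut (Q hω h2)) ≤ 100465920 := card_aut_le chk_all chk_len chk_c6 chk_c3
  have hfin : Finite (MulAut (Q hω h2)) :=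
    Finite.of_injective (fun φ : MulAut (Q hω h2) => (φ : Q hω h2 → Q hω h2))
      (fun a b h => MulEquiv.ext (congrFun h))
  have h3 := Subgroup.card_mul_index (Cfsg.Inn (Q hω h2))
  rw [card_inn] at h3
  have h4 : (Cfsg.Inn (Q hω h2)).index ≠ 1 := by
    rw [Ne, Subgroup.index_eq_one]
    intro htop
    have : αQ hω h2 ∈ Cfsg.Inn (Q hω h2) := by rw [htop]; exact Subgroup.mem_top _
    obtain ⟨g, hg⟩ := this
    exact αQ_not_inner hω h2 g hg.symm
  have h5 : (Cfsg.Inn (Q hω h2)).index ≠ 0 := by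
    intro h0
    rw [h0, mul_zero] at h3
    have : Nat.card (MulAut (Q hω h2)) ≠ 0 := Nat.card_pos.ne'
    exact this h3.symm
  show Nat.card (MulAut (Q hω h2) ⧸ Cfsg.Inn (Q hω h2)) = 2
  rw [← Subgroup.index_eq_card]
  have h6 : 50232960 * (Cfsg.Inn (Q hω h2)).index ≤ 100465920 := by rw [h3]; exact h1
  omega

include hω h2 in
theorem card_out_J3 : Nat.card (Cfsg.Out (Cfsg.Spor.J3 F ω)) = 2 := by
  show Nat.card (Cfsg.Out (↥(threeJ3 F ω) ⧸ Subgroup.center ↥(threeJ3 F ω))) = 2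
  rw [threeJ3_eq hω h2]
  exact card_out_Q hω h2

end

end Cfsg.Agent.J3O
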