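import Cfsg.Agent.Lib.Lead.J3.Quot

/-!
# The field automorphism on coded matrices and an automorphism of 3·J₃ inverting the centre

The entrywise square of a coded matrix is computed on the code.  Conjugating the entrywise square by a suitable
matrix maps the two generators of 3·J₃ into 3·J₃, and the scalar `ω` to `ω²`.
-/

set_option autoImplicit false
set_option linter.unusedSectionVars false

namespace Cfsg.Agent.J3O

open Cfsg.Spor Cfsg.Agent.Lib.Helper6.Cod Cfsg.Agent.Lib.Helper6.F4 Cfsg.Agent.Lib.Helper6.J3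

/-- the code of the entrywise square -/
def frobC (c : ℕ) : ℕ :=
  Nat.add (Nat.xor (pl0 c) (Nat.mod (pl1 c) P81)) (Nat.mul P81 (Nat.mod (pl1 c) P81))

theorem frobC_eq (c : ℕ) : frobC c = 2 ^ 81 * (pl1 c % 2 ^ 81) + (pl0 c ^^^ (pl1 c % 2 ^ 81)) := by
  show (pl0 c ^^^ (pl1 c % P81)) + P81 * (pl1 c % P81) = _
  rw [P81_eq]; ring

theorem pl0_lt (c : ℕ) : pl0 c < 2 ^ 81 := by
  show c % P81 < _
  rw [P81_eq]; exact Nat.mod_lt _ (by norm_num)

theorem frobC_lo_lt (c : ℕ) : pl0 c ^^^ (pl1 c % 2 ^ 81) < 2 ^ 81 :=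
  Nat.xor_lt_two_pow (pl0_lt c) (Nat.mod_lt _ (by norm_num))

theorem testBit_frobC_lo (c n : ℕ) (hn : n < 81) :
    (frobC c).testBit n = (c.testBit n ^^ c.testBit (81 + n)) := by
  rw [frobC_eq, Nat.testBit_two_pow_mul_add _ (frobC_lo_lt c), if_pos hn, Nat.testBit_xor,
    testBit_pl0 _ _ hn, Nat.testBit_mod_two_pow, testBit_pl1]
  simp [hn]

theorem testBit_frobC_hi (c n : ℕ) (hn : n < 81) :
    (frobC c).testBit (81 + n) = c.testBit (81 + n) := by
  rw [frobC_eq, Nat.testBit_two_pow_mul_add _ (frobC_lo_lt c), if_neg (by omega),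
    Nat.testBit_mod_two_pow, testBit_pl1]
  have e : 81 + n - 81 = n := by omega
  rw [e]
  simp [hn]

theorem frobC_lt (c : ℕ) : frobC c < 2 ^ 162 := by
  rw [frobC_eq]
  have h1 := frobC_lo_lt c
  have h2 : pl1 c % 2 ^ 81 < 2 ^ 81 := Nat.mod_lt _ (by norm_num)
  have e : (2 : ℕ) ^ 162 = 2 ^ 81 * 2 ^ 81 := by norm_num
  rw [e]
  nlinarith

section

variable {F : Type*} [Field F] {ω : F} (hω : ω ^ 2 + ω + 1 = 0) (h2 : (2 : F) = 0)

/-- the squaring map of a field of characteristic two -/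
def sqHom : F →+* F where
  toFun x := x ^ 2
  map_one' := one_pow 2
  map_mul' x y := mul_pow x y 2
  map_zero' := zero_pow (by norm_num)
  map_add' x y := by linear_combination (x * y) * h2

theorem sqHom_apply (x : F) : sqHom h2 x = x ^ 2 := rfl

theorem β_sq (b : Bool) : β F b ^ 2 = β F b := by
  cases b <;> simp [β]

include hω in
theorem den_frobC (c : ℕ) : den F ω (frobC c) = (den F ω c).map (sqHom h2) := by
  ext w z
  have hi := idx_lt w
  have hj := idx_lt z
  have hlo : 9 * idx w + idx z < 81 := by omega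
  rw [Matrix.map_apply, sqHom_apply]
  simp only [den]
  rw [testBit_frobC_lo _ _ hlo, testBit_frobC_hi _ _ hlo, β_xor h2]
  have hω' : ω ^ 2 = ω + 1 := by linear_combination hω - (ω + 1) * h2
  have e1 := β_sq (F := F) (c.testBit (9 * idx w + idx z))
  have e2 := β_sq (F := F) (c.testBit (81 + (9 * idx w + idx z)))
  generalize β F (c.testBit (9 * idx w + idx z)) = p at e1 ⊢
  generalize β F (c.testBit (81 + (9 * idx w + idx z))) = q at e2 ⊢
  linear_combination (-1 : F) * e1 - (ω + 1) * e2 - q ^ 2 * hω' - (p * q * ω) * h2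

end

end Cfsg.Agent.J3O
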