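import Cfsg.Agent.Lib.Lead.J3.Base

/-!
# The central quotient of 3·J₃: scalars, involutions, transfer of tests along automorphisms
-/

set_option autoImplicit false
set_option linter.unusedSectionVars false

namespace Cfsg.Agent.J3O

open Cfsg.Spor Cfsg.Agent.Lib.Helper6.Cod Cfsg.Agent.Lib.Helper6.F4 Cfsg.Agent.Lib.Helper6.J3

/-- the code of the scalar `ω` -/
def cz : ℕ := 2925860560365287562542665234589536642254243889152
/-- the code of the scalar `ω²` -/
def cz2 : ℕ := 2925860560365287562542666444697101926105930007553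

theorem chk_cz : cz = codesX.getD 8 lone ∧ lmul cz cz = cz2 := by decide +kernel

/-- the test for the three scalar codes -/
def isScal (c : ℕ) : Bool := Nat.beq c lone || (Nat.beq c cz || Nat.beq c cz2)

theorem isScal_iff (c : ℕ) : isScal c = true ↔ c = lone ∨ c = cz ∨ c = cz2 := by
  rw [isScal, Bool.or_eq_true, Bool.or_eq_true, Nat.beq_eq, Nat.beq_eq, Nat.beq_eq]

section

variable {F : Type*} [Field F] [Finite F] {ω : F} (hω : ω ^ 2 + ω + 1 = 0) (h2 : (2 : F) = 0)

theorem center_eq : Subgroup.center ↥(G₂ hω h2) = Subgroup.zpowers (zG hω h2) :=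
  (center_eq_and_simple (Subgroup.zpowers (zG hω h2)) (proper_normal hω h2)
    (zpowers_le_center hω h2) (center_ne_top hω h2)).1

theorem hasCode_z : HasCode hω h2 (zG hω h2) cz :=
  ⟨by rw [ι_z, ← chk_cz.1], by norm_num [cz]⟩

theorem orderOf_z : orderOf (zG hω h2) = 3 := by
  have : Fact (Nat.Prime 3) := ⟨Nat.prime_three⟩
  exact orderOf_eq_prime (z_pow_three hω h2) (z_ne_one hω h2)

theorem mem_zpowers_z (g : ↥(G₂ hω h2)) :
    g ∈ Subgroup.zpowers (zG hω h2) ↔ g = 1 ∨ g = zG hω h2 ∨ g = zG hω h2 * zG hω h2 := by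
  constructor
  · rintro ⟨k, rfl⟩
    have h1 := zpow_mod_orderOf (zG hω h2) k
    rw [orderOf_z] at h1
    have h3 : (0 : ℤ) ≤ k % ((3 : ℕ) : ℤ) := Int.emod_nonneg _ (by norm_num)
    have h4 : k % ((3 : ℕ) : ℤ) < 3 := Int.emod_lt_of_pos _ (by norm_num)
    show zG hω h2 ^ k = 1 ∨ zG hω h2 ^ k = zG hω h2 ∨ zG hω h2 ^ k = zG hω h2 * zG hω h2
    rw [← h1]
    generalize k % ((3 : ℕ) : ℤ) = r at h3 h4
    interval_cases r
    · left; exact zpow_zero _
    · right; left; exact zpow_one _
    · right; right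
      exact zpow_two _
  · rintro (rfl | rfl | rfl)
    · exact Subgroup.one_mem _
    · exact Subgroup.mem_zpowers _
    · exact Subgroup.mul_mem _ (Subgroup.mem_zpowers _) (Subgroup.mem_zpowers _)

variable {hω h2}

theorem mem_center_iff {g : ↥(G₂ hω h2)} {c : ℕ} (h : HasCode hω h2 g c) :
    g ∈ Subgroup.center ↥(G₂ hω h2) ↔ isScal c = true := by
  rw [center_eq, mem_zpowers_z, isScal_iff]
  have hz := hasCode_z hω h2
  have hzz : HasCode hω h2 (zG hω h2 * zG hω h2) cz2 := by
    have := hz.mul hz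
    rwa [chk_cz.2] at this
  constructor
  · rintro (rfl | rfl | rfl)
    · left; exact h.code_eq hasCode_one
    · right; left; exact h.code_eq hz
    · right; right; exact h.code_eq hzz
  · rintro (rfl | rfl | rfl)
    · left; exact h.elt_eq hasCode_one
    · right; left; exact h.elt_eq hz
    · right; right; exact h.elt_eq hzz

variable (hω h2)

/-- the central quotient -/
abbrev Q : Type _ := ↥(G₂ hω h2) ⧸ Subgroup.center ↥(G₂ hω h2)

/-- the quotient map -/
def π : ↥(G₂ hω h2) →* Q hω h2 := QuotientGroup.mk' _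

theorem π_surjective : Function.Surjective (π hω h2) := QuotientGroup.mk'_surjective _

variable {hω h2}

theorem π_eq_one_iff {g : ↥(G₂ hω h2)} {c : ℕ} (h : HasCode hω h2 g c) :
    π hω h2 g = 1 ↔ isScal c = true := by
  rw [← mem_center_iff h]
  exact QuotientGroup.eq_one_iff g

variable (hω h2)

open Classical in
/-- the element of the quotient of a code -/
noncomputable def qOf (c : ℕ) : Q hω h2 :=
  if h : ∃ g : ↥(G₂ hω h2), HasCode hω h2 g c then π hω h2 h.choose else 1

variable {hω h2}

theorem qOf_eq {g : ↥(G₂ hω h2)} {c : ℕ} (h : HasCode hω h2 g c) : qOf hω h2 c = π hω h2 g := by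
  have hex : ∃ g : ↥(G₂ hω h2), HasCode hω h2 g c := ⟨g, h⟩
  rw [qOf, dif_pos hex]
  rw [hex.choose_spec.elt_eq h]

variable (hω h2)

theorem card_center : Nat.card (Subgroup.center ↥(G₂ hω h2)) = 3 := (main_G₂ hω h2).1

/-- every involution of the quotient is the image of an involution -/
theorem inv_lift (q : Q hω h2) (hq : q ^ 2 = 1) :
    ∃ y : ↥(G₂ hω h2), y ^ 2 = 1 ∧ π hω h2 y = q := by
  obtain ⟨x, rfl⟩ := π_surjective hω h2 q
  have h1 : x ^ 2 ∈ Subgroup.center ↥(G₂ hω h2) := by
    rw [← QuotientGroup.eq_one_iff]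
    exact hq
  have h3 : (x ^ 2) ^ 3 = 1 := by
    have := pow_card_eq_one' (G := Subgroup.center ↥(G₂ hω h2)) (x := ⟨x ^ 2, h1⟩)
    rw [card_center] at this
    exact congrArg Subtype.val this
  refine ⟨x ^ 3, ?_, ?_⟩
  · rw [← pow_mul, mul_comm, pow_mul]
    exact h3
  · rw [map_pow, pow_succ, hq, one_mul]

/-! ### transfer of tests -/

variable {hω h2}

/-- whether a register of a straight line program is a scalar is invariant under automorphisms of the quotient -/
theorem isScal_transfer (φ : Q hω h2 ≃* Q hω h2) {gs gs' : List ↥(G₂ hω h2)} {cs cs' : List ℕ}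
    (h : RegsOK hω h2 gs cs) (h' : RegsOK hω h2 gs' cs')
    (hφ : (gs.map (π hω h2)).map φ = gs'.map (π hω h2)) (is : List (ℕ × ℕ)) (i : ℕ) :
    isScal ((run is cs).getD i lone) = isScal ((run is cs').getD i lone) := by
  have key : ∀ {gs : List ↥(G₂ hω h2)} {cs : List ℕ}, RegsOK hω h2 gs cs →
      (isScal ((run is cs).getD i lone) = true ↔ (runM is (gs.map (π hω h2))).getD i 1 = 1) := by
    intro gs cs h
    rw [← π_eq_one_iff ((h.run (is := is)).getD i), ← map_runM, ← map_one (π hω h2), List.getD_map,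
      map_one]
  have e1 := key h
  have e2 := key h'
  rw [← hφ] at e2
  have e3 : (runM is ((gs.map (π hω h2)).map φ)).getD i 1 = 1 ↔
      (runM is (gs.map (π hω h2))).getD i 1 = 1 := by
    have e4 : runM is ((gs.map (π hω h2)).map φ) = (runM is (gs.map (π hω h2))).map φ :=
      (map_runM φ.toMonoidHom is (gs.map (π hω h2))).symm
    rw [e4]
    have e5 : ((runM is (gs.map (π hω h2))).map φ).getD i 1 =
        φ ((runM is (gs.map (π hω h2))).getD i 1) := by
      have := List.getD_map (f := (φ : Q hω h2 → Q hω h2)) (l := runM is (gs.map (π hω h2)))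
        (n := i) (d := 1)
      rw [map_one] at this
      exact this
    rw [e5]
    exact map_eq_one_iff φ φ.injective
  rw [e3, ← e1] at e2
  rw [Bool.eq_iff_iff]
  exact e2.symm

end

end Cfsg.Agent.J3O
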