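import Cfsg.Agent.Lib.Lead.J3.Quot

/-!
# The Sylow 2-subgroup of 3·J₃ with the codes of its elements

A variant of the soundness of the test of Sylow data which keeps the codes of the elements.
-/

set_option autoImplicit false
set_option linter.unusedSectionVars false

namespace Cfsg.Agent.J3O

open Cfsg.Spor Cfsg.Agent.Lib.Helper6.Cod Cfsg.Agent.Lib.Helper6.F4 Cfsg.Agent.Lib.Helper6.J3
  Cfsg.Agent.Lib.Helper6.SylowSimple

section gl

variable {M : Type*} [Monoid M] {K : Coding M} {Γ : Type*} [Group Γ] {ι : Γ →* M}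
  {S : List ℕ} {gen : ℕ → Γ}

theorem sylOK_explicit (hι : Function.Injective ι)
    (hgen : ∀ i, ι (gen i) = K.den (S.getD i K.one))
    (H : Subgroup Γ) (hH : ∀ i, gen i ∈ H) [DecidableEq Γ]
    {T : List ℕ} {R : List Root} {D : List SylEntry}
    (hD : sylOK K.mul K.one S T R D = true) :
    ∃ F : Finset Γ, 1 ∈ F ∧ (∀ a ∈ F, ∀ b ∈ F, a * b ∈ F) ∧
      (∀ a ∈ F, a ∈ H) ∧ F.card = D.length ∧
      ∀ a ∈ F, ∃ d ∈ D, ι a = K.den d.1 ∧ K.Canon d.1 := by
  unfold sylOK at hD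
  simp only [Bool.and_eq_true, List.all_eq_true] at hD
  obtain ⟨⟨⟨⟨_, h1⟩, h2⟩, h3⟩, h4⟩ := hD
  have h4' := nodupB_nodup h4
  have hcode : ∀ d ∈ D, d.1 = evalW K.mul K.one S d.2.1 := by
    intro d hd
    have := h1 d hd
    unfold entryOK at this
    rw [Bool.and_eq_true] at this
    exact Nat.eq_of_beq_eq_true this.1
  have hval : ∀ d ∈ D, ι (evalGL gen d.2.1) = K.den d.1 := by
    intro d hd
    rw [val_evalGL hgen, ← hcode d hd]
  have hcanon : ∀ d ∈ D, K.Canon d.1 := by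
    intro d hd
    rw [hcode d hd]; exact canon_evalW K _ _
  have hinj : ∀ d ∈ D, ∀ d' ∈ D, evalGL gen d.2.1 = evalGL gen d'.2.1 → d = d' := by
    intro d hd d' hd' h
    have hc : d.1 = d'.1 := by
      apply K.den_inj _ _ (hcanon d hd) (hcanon d' hd')
      rw [← hval d hd, ← hval d' hd', h]
    exact List.inj_on_of_nodup_map h4' hd hd' hc
  refine ⟨(D.map fun d => evalGL gen d.2.1).toFinset, ?_, ?_, ?_, ?_, ?_⟩
  · rw [memB_iff, List.mem_map] at h2
    obtain ⟨d, hd, hd1⟩ := h2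
    rw [List.mem_toFinset, List.mem_map]
    refine ⟨d, hd, hι ?_⟩
    rw [hval d hd, hd1, K.den_one, map_one]
  · intro a ha b hb
    rw [List.mem_toFinset, List.mem_map] at ha hb ⊢
    obtain ⟨d, hd, rfl⟩ := ha
    obtain ⟨d', hd', rfl⟩ := hb
    have := h3 d.1 (List.mem_map.2 ⟨d, hd, rfl⟩) d'.1 (List.mem_map.2 ⟨d', hd', rfl⟩)
    rw [memB_iff, List.mem_map] at this
    obtain ⟨d'', hd'', hc⟩ := this
    refine ⟨d'', hd'', hι ?_⟩
    rw [hval d'' hd'', hc, K.den_mul, map_mul, hval d hd, hval d' hd']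
  · intro a ha
    rw [List.mem_toFinset, List.mem_map] at ha
    obtain ⟨d, -, rfl⟩ := ha
    exact evalGL_mem H hH _
  · rw [List.toFinset_card_of_nodup, List.length_map]
    exact List.Nodup.map_on hinj (List.Nodup.of_map _ h4')
  · intro a ha
    rw [List.mem_toFinset, List.mem_map] at ha
    obtain ⟨d, hd, rfl⟩ := ha
    exact ⟨d, hd, hval d hd, hcanon d hd⟩

end gl

section

variable {F : Type*} [Field F] [Finite F] {ω : F} (hω : ω ^ 2 + ω + 1 = 0) (h2 : (2 : F) = 0)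

/-- a Sylow 2-subgroup all of whose elements have codes in the list -/
theorem exists_sylow2 : ∃ P : Sylow 2 ↥(G₂ hω h2), ∀ e ∈ (P : Subgroup ↥(G₂ hω h2)),
    ∃ d ∈ sylD2, HasCode hω h2 e d.1 := by
  classical
  have : Fact (Nat.Prime 2) := ⟨Nat.prime_two⟩
  have hD' : sylOK (coding hω h2).mul (coding hω h2).one (sys hω h2).codes [ca, cb] root2 sylD2 =
      true := by
    rw [sys_codes]; exact chk_syl2
  obtain ⟨Fs, h1, h2', h3, h4, h5⟩ := sylOK_explicit (ι := ι F) ι_inj (sys hω h2).hgen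
    (G₂ hω h2) (sys hω h2).hH hD'
  obtain ⟨P, hP⟩ := exists_sylow_of_finset (G₂ hω h2) 2 7 Fs h1 h2' h3
    (by rw [h4, chk_len.1]; norm_num) (by rw [card_G₂]; norm_num)
  refine ⟨P, fun e he => ?_⟩
  obtain ⟨d, hd, hv, hc⟩ := h5 e.1 ((hP e).1 he)
  exact ⟨d, hd, hv, hc⟩

end

end Cfsg.Agent.J3O
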